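import Cfsg.Agent.BG.S3Wielandt
import Cfsg.Agent.BG.S3Gen
import Cfsg.Agent.BG.Constt
import Cfsg.Agent.BG.MinSimple
import Cfsg.Agent.PLocal.WS
import Cfsg.Agent.PLocal.Stable
import Cfsg.Agent.PLocal.ZJ
import Cfsg.Agent.Frob.Zipper
import Cfsg.Agent.Char.Burnside
import Cfsg.Agent.S3815

/-! Groups in which every two elements generate a solvable subgroup, part 1 (after Flavell). (helper12) -/

set_option autoImplicit false
set_option linter.unusedVariables false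
set_option linter.unusedSectionVars false

namespace Cfsg.Agent.Flav

open Subgroup Cfsg.Agent.BG
open scoped commutatorElement

local notation "Sol" => Group.IsSolvable
local notation "Nil" => Group.IsNilpotent

variable {G : Type*} [Group G] [Finite G] {A B D E H K M P Q R S T T' X : Subgroup G}
  {a d g n w x z : G} {p q t : ℕ}

theorem baer [Fact p.Prime] (hX : X ≤ H) (h : ∀ g ∈ H, IsPGroup p (X ⊔ cj g X : Subgroup G)) :
    X ≤ Op p H := by
  obtain ⟨Y, rfl⟩ := lift_le hX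
  rw [Op_eq]
  refine map_mono (Frob.le_pCore_of_forall_conj fun g => ?_)
  have h1 := h g g.2
  rw [← show H.subtype g = g from rfl, ← map_cj, ← Subgroup.map_sup] at h1
  exact pgroup_iff.2 ((pgroup_map_inj H.subtype_injective).1 (pgroup_iff.1 h1))

theorem exists_member [Fact p.Prime] (hP : IsPGroup p P) (H : Subgroup G) (h1 : P ≤ H)
    (h2 : ¬ P ≤ Op p H) : ∃ a, a ∈ P ⊔ cj a P ∧ ¬ IsPGroup p (P ⊔ cj a P : Subgroup G) := by
  induction H using WellFoundedLT.induction with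
  | ind H ih =>
  obtain ⟨a, ha, h3⟩ : ∃ a ∈ H, ¬ IsPGroup p (P ⊔ cj a P : Subgroup G) := by
    by_contra h; push Not at h; exact h2 (baer h1 h)
  rcases (sup_le h1 (cj_le_of_mem ha h1)).eq_or_lt with h4 | h4
  · exact ⟨a, h4 ▸ ha, h3⟩
  refine ih _ h4 le_sup_left fun h5 => h3 (IsPGroup.sub (pgroup_sup (.inr
    (le_sup_right.trans (pcore_normal _ _).norm)) (Op_pgroup p (P ⊔ cj a P)) (IsPGroup.cj hP a))
    (sup_le_sup_right h5 _))

/-- a minimal counterexample -/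
structure Min (G : Type*) [Group G] : Prop where
  simple : ∀ H : Subgroup G, H ⊴ ⊤ → H = ⊥ ∨ H = ⊤
  nsol : ¬ Sol (⊤ : Subgroup G)
  sol : ∀ H : Subgroup G, H ≠ ⊤ → Sol H
  two : ∀ a b : G, ∃ T : Subgroup G, IsCoatom T ∧ a ∈ T ∧ b ∈ T

namespace Min

variable (h : Min G)
include h

theorem norm_ne (h1 : H ≠ ⊥) (h2 : Sol H) : N[H] ≠ ⊤ := fun e =>
  (h.simple H ⟨le_top, e.ge⟩).elim h1 fun e' => h.nsol (e' ▸ h2)

theorem norm_eq (hT : IsCoatom T) (h1 : H ≠ ⊥) (h2 : Sol H) (hn : T ≤ N[H]) : N[H] = T :=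
  mmax_max hT (h.norm_ne h1 h2) hn

theorem norm_eq' (hT : IsCoatom T) (h1 : H ≠ ⊥) (hn : H ⊴ T) : N[H] = T :=
  h.norm_eq hT h1 (solvableS hn.le (h.sol T hT.1)) hn.norm

theorem cent1_ne (h1 : z ≠ 1) : C1[z] ≠ ⊤ :=
  sub_proper (cent1_le_norm_zpowers z) (h.norm_ne (by simpa) (abelian_sol (abelian_zpowers z)))

theorem powell (hq : q.Prime) (hG : q ∣ Nat.card G) (h1 : ∀ g, ∃ T, d ∈ Op' q T ∧ g ∈ T) : d = 1 := by
  have := Fact.mk hq
  have h2 := S3815.result (p := q) d (by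
    obtain ⟨T, h2, -⟩ := h1 1
    exact (p'nat_coprime hq).1 (mem_p_elt (pcore_pgroup _ _) h2)) fun g hg => by
      obtain ⟨T, h2, h3⟩ := h1 g
      exact (p'nat_coprime hq).1 (mem_p_elt (pgroupY (.inr ((zpowers_le.2 h3).trans
        (pcore_normal _ _).norm)) (pcore_pgroup _ T) (p_elt_zpowers.2 ((p'nat_coprime hq).2 hg)))
        (mul_mem_sup' h2 (mem_zpowers g)))
  rw [← Op'_top] at h2
  rcases h.simple _ (pcore_normal {q}ᶜ ⊤) with e | e
  · rwa [Op', e, mem_bot] at h2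
  · have h3 := pcore_pgroup {q}ᶜ (⊤ : Subgroup G)
    rw [e] at h3
    exact ((p'natE hq).1 h3 (by rwa [card_top])).elim

theorem cent1_core [hq : Fact q.Prime] (hz : PiElt {q} z) (h1 : z ≠ 1) : Op' q C1[z] = ⊥ := by
  refine (eq_bot_iff_forall _).2 fun d hd => h.powell hq.out ?_ fun g => ?_
  · obtain ⟨r, hr, h2⟩ := Nat.exists_prime_and_dvd (mt orderOf_eq_one_iff.1 h1)
    exact (hz r hr h2 : r = q) ▸ h2.trans (orderOf_dvd_natCard z)
  obtain ⟨T, hT, h2, h3⟩ := h.two (z * d) g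
  have hc : Commute z d := (mem_cent1.1 (pcore_sub _ _ hd)).symm
  obtain ⟨e1, e2⟩ := constt_eq hc hz (mem_p_elt (pcore_pgroup _ _) hd)
  have h4 : z ∈ T := e1 ▸ constt_mem _ h2
  have h5 : d ∈ T := e2 ▸ constt_mem _ h2
  refine ⟨T, p'core_cent_pgroup (zpowers_le.2 h4) (pgroup_iff.2 (p_elt_zpowers.2 hz)) (h.sol T hT.1)
    (pcore_setI (M := C1[z]) _ (by rw [C_zpowers]; exact inf_le_right) ⟨hd, h5, ?_⟩), h3⟩
  rw [C_zpowers]; exact pcore_sub _ _ hd

theorem cent_core [hq : Fact q.Prime] (hQ : IsPGroup q Q) (h1 : Q ≠ ⊥) : Op' q C[Q] = ⊥ := by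
  obtain ⟨z, hz, h2⟩ := trivgPn.1 (center_nil_ne_bot (pgroup_nil hQ) h1)
  have h3 := p'core_cent_pgroup (le_cent1_iff.2 hz.2) hQ (h.sol _ (h.cent1_ne h2))
  rwa [h.cent1_core (mem_p_elt (IsPGroup.pi hQ) hz.1) h2, inf_eq_right.2 (cent_le_cent1 hz.1),
    le_bot_iff] at h3

theorem norm_core [hq : Fact q.Prime] (hQ : IsPGroup q Q) (h1 : Q ≠ ⊥) : Op' q N[Q] = ⊥ := by
  have h2 := pcore_setI {q}ᶜ (cent_sub Q)
  rwa [← Op', ← Op', h.cent_core hQ h1, inf_eq_left.2 (cents_symm (normal_pi_cent (normalG Q)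
    (pcore_normal _ _) (IsPGroup.pi hQ) (pcore_pgroup _ _))), le_bot_iff] at h2

theorem max_ne (hT : IsCoatom T) : T ≠ ⊥ := by
  rintro rfl
  refine h.nsol (abelian_sol (abelian_iff.2 (le_cent_iff.2 fun a _ b _ => ?_)))
  obtain ⟨T, h1, h2, h3⟩ := h.two a b
  by_cases h4 : T = ⊥
  · rw [h4, mem_bot] at h2; simp [h2]
  · exact (h1.1 (hT.2 T (bot_lt_iff_ne_bot.2 h4))).elim

theorem exists_char (hT : IsCoatom T) : ∃ t, t.Prime ∧ Op t T ≠ ⊥ ∧ Op' t T = ⊥ := by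
  by_contra h1
  push Not at h1
  refine h.max_ne hT (trivg_Fitting (h.sol T hT.1) (le_bot_iff.1 (Fitting_le_of_pcore fun t ht _ => ?_)))
  by_contra h2
  have := Fact.mk ht
  rw [le_bot_iff] at h2
  exact h1 t ht h2 (h.norm_eq' hT h2 (pcore_normal _ _) ▸ h.norm_core (Op_pgroup t T) h2)

theorem emb [hp : Fact p.Prime] (h5 : 5 ≤ p) (hS : SylowIn p S ⊤) (hQ : Q ≤ S) (h1 : Q ≠ ⊥) :
    N[Q] ≤ N[PLocal.WOf p S] := by
  obtain ⟨S, rfl⟩ := sylow_of_sylowIn_top hS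
  refine PLocal.normalizer_le_of_local (W := PLocal.WOf p) (PLocal.WOf_le p)
    (fun R hR => PLocal.WOf_ne_bot hR) PLocal.cj_WOf (fun Q R hQ h1 hR => ?_) S hQ h1
  have := h.sol _ (h.norm_ne h1 (pgroup_sol hQ))
  have h2 := h.norm_core hQ h1
  rw [Op'_eq, map_eq_bot_iff_of_injective _ (subtype_injective _)] at h2
  have h3 := (normal_map_subtype (PLocal.WOf_normal (PLocal.isActionPStable_of_not_quadIn fun h => by
    have := (h.three_of_pSolv (by omega) (PLocal.pSolv_top.2 PLocal.pSolv_of_isSolvable)).1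
    omega) (PLocal.centralizer_pCore_le_of_pSolv PLocal.pSolv_of_isSolvable h2) hR.toSylow)).norm
  rwa [PLocal.map_WOf (by simp), hR.map_toSylow] at h3

theorem cyc [hp : Fact p.Prime] (h5 : 5 ≤ p) (hS : SylowIn p S ⊤) (hx : x ∈ Z[S])
    (ho : orderOf x = p) : IsCyclic S := by
  have hP := p1Elem_zpowers hp.out hx.1 ho
  have hP0 := nt_pnElem hp.out hP one_pos
  have hW : PLocal.WOf p S ≠ ⊥ := PLocal.WOf_ne_bot hS.pg fun e => hP0 (le_bot_iff.1 (e ▸ hP.le))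
  have hWp : IsPGroup p (PLocal.WOf p S) := hS.pg.sub (PLocal.WOf_le p S)
  obtain ⟨M, hM⟩ : ∃ M, M = N[PLocal.WOf p S] := ⟨_, rfl⟩
  have hSM : S ≤ M := hM ▸ (normG S).trans (PLocal.normalizer_le_normalizer_WOf p S)
  have hxM : x ∈ Op p M := cent_sub_pcore (h.sol M (hM ▸ h.norm_ne hW (pgroup_sol hWp)))
    (hM ▸ h.norm_core hWp hW) ⟨hSM hx.1, centS (pcore_sub_Hall (pHall_subl hSM le_top hS)) hx.2⟩
  rw [← pgroup_rank1_cyclic hS.pg (.inl (by omega)), ← not_lt]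
  intro h1
  obtain ⟨E₀, hE₀⟩ := (p_rank_geP hp.out).1 h1
  obtain ⟨n, hn, hn'⟩ := SetLike.not_le_iff_exists.1 fun e : E₀ ≤ zpowers x => by
    have := hE₀.le_of_le hp.out hP e; omega
  have hN := p1Elem_zpowers hp.out (hE₀.le hn)
    (abelem_order_p hE₀.abelem hn (by rintro rfl; exact hn' (one_mem _)))
  have hE := p1Elem_join2 hp.out hP hN (fun e => hn' (e ▸ mem_zpowers n))
    (zpowers_le.2 (centS hN.le hx.2))
  obtain ⟨a, ha, h2⟩ := exists_member hP.pg ⊤ le_top fun e => by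
    rcases h.simple _ (pcore_normal {p} ⊤) with e' | e'
    · exact hP0 (le_bot_iff.1 (e' ▸ e))
    · exact h.nsol (e' ▸ pgroup_sol (Op_pgroup p ⊤))
  obtain ⟨T, hT, hxT, hT2⟩ := h.two x (a * n)
  have hB : zpowers x ⊔ cj a (zpowers x) ≤ T := sup_le (zpowers_le.2 hxT) (by
    rw [← cj_of_cent (g := n) (A := zpowers x) (cents_symm (zpowers_le.2 hx.2) (hE₀.le hn)), ← cj_mul]
    exact cj_le_of_mem hT2 (zpowers_le.2 hxT))
  have hET : zpowers x ⊔ zpowers n ≤ T := sup_le (zpowers_le.2 hxT)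
    (zpowers_le.2 ((mul_mem_cancel_left (hB ha)).1 hT2))
  obtain ⟨t, ht, h3, h4⟩ := h.exists_char hT
  have := Fact.mk ht
  have hnQ := hET.trans (pcore_normal {t} T).norm
  by_cases htp : t = p
  · subst htp
    obtain ⟨g, -, hg⟩ := Sylow_subJ hS le_top (pgroup_sup (.inr hnQ) (Op_pgroup t T) hE.pg)
    have hS' := pHallJsub (mem_top g) hS
    have h6 := h.emb h5 hS' (le_sup_left.trans hg) h3
    have h7 := (cents_norm (cents_symm (zpowers_le.2 hx.2))).trans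
      (h.emb h5 hS' (le_sup_left.trans (le_sup_right.trans hg)) hP0)
    obtain ⟨k, hk, e⟩ := Sylow_trans (pHall_subl ((normG _).trans
      (PLocal.normalizer_le_normalizer_WOf t _)) le_top hS') (pHall_subl h7 le_top hS)
    have e' : PLocal.WOf t S = PLocal.WOf t (cj g S) := by
      rw [← cj_of_norm hk, cj_def k, PLocal.cj_WOf, ← cj_def k, ← e]
    rw [← e', ← hM, h.norm_eq' hT h3 (pcore_normal _ _)] at h6
    exact h2 ((Op_pgroup t M).sub (sup_le (zpowers_le.2 hxM)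
      (cj_le_of_norm ((pcore_normal _ _).norm (h6 (hB ha))) (zpowers_le.2 hxM))))
  · have h6 : Op t T ≤ M := coprime_abelian_gen_cent1 hE.abelian (hE.not_cyclic hp.out one_lt_two) hnQ
      (pnat_coprime' (p'group_of_ne (Op_pgroup t T) htp) hE.pg.pi) fun e he h6 =>
      inf_le_right.trans ((cent1_le_norm_zpowers e).trans
        (hM ▸ h.emb h5 hS (zpowers_le.2 (hE.le he)) (by simpa)))
    have h7 : zpowers x ≤ C[Op t T] := commG1'.1 (le_bot_iff.1 (le_trans (le_inf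
      (commg_subl (le_sup_left.trans hnQ)) ((commgS _ (zpowers_le.2 hxM)).trans
      (commg_subr (h6.trans (pcore_normal _ _).norm))))
      (pgroup_TI' (p'group_of_ne (Op_pgroup t T) htp) (pcore_pgroup _ M)).le))
    exact hP0 (trivg_of_pi hP.pg.pi (pgroupS ((le_inf (zpowers_le.2 hxT) h7).trans
      (cent_sub_pcore (h.sol T hT.1) h4)) (p'group_of_ne (Op_pgroup t T) htp)))

end Min

end Cfsg.Agent.Flav
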