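import Cfsg.Agent.Flav.F1

/-! Groups in which every two elements generate a solvable subgroup, part 2. (helper12) -/

set_option autoImplicit false
set_option linter.unusedVariables false
set_option linter.unusedSectionVars false

namespace Cfsg.Agent.Flav

open Subgroup Cfsg.Agent.BG
open scoped commutatorElement

local notation "Sol" => Group.IsSolvable
local notation "Nil" => Group.IsNilpotent

variable {G : Type*} [Group G] [Finite G] {A B D E H K M P Q R S T T' X : Subgroup G}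
  {a d g n w x z : G} {p q t m : ℕ}

/-- Thompson subgroup for a fixed rank -/
def Jm (t m : ℕ) (X : Subgroup G) : Subgroup G := sSup {A | pnElem t m X A}

theorem cj_Jm (g : G) (X : Subgroup G) : cj g (Jm t m X) = Jm t m (cj g X) := by
  rw [Jm, cj_sSup, Jm]
  congr 1
  ext A
  exact ⟨by rintro ⟨B, hB, rfl⟩; exact pnElemJ.2 hB,
    fun hA => ⟨cj g⁻¹ A, pnElemJ.1 (by rwa [cj_cj_inv]), cj_cj_inv _ _⟩⟩

theorem norms_Jm (X : Subgroup G) : N[X] ≤ N[Jm t m X] :=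
  norm_of_cj (F := Jm t m) (fun g A => (cj_Jm g A).symm) X

theorem one_add_sum_le {ι : Type*} (s : Finset ι) (f : ι → ℕ) (h : ∀ i ∈ s, 2 ≤ f i) :
    1 + ∑ i ∈ s, (f i - 1) ≤ ∏ i ∈ s, f i := by
  classical
  induction s using Finset.induction_on with
  | empty => simp
  | insert i s hi ih =>
  rw [Finset.sum_insert hi, Finset.prod_insert hi]
  have h1 := ih fun j hj => h j (Finset.mem_insert_of_mem hj)
  obtain ⟨k, hk⟩ := Nat.exists_eq_add_of_le (h i (Finset.mem_insert_self i s))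
  rw [hk, show 2 + k - 1 = k + 1 by omega]
  nlinarith [Nat.zero_le (∑ i ∈ s, (f i - 1))]

theorem one_add_sum_lt {ι : Type*} (s : Finset ι) (f : ι → ℕ) (h : ∀ i ∈ s, 2 ≤ f i) {i j : ι}
    (hi : i ∈ s) (hj : j ∈ s) (hij : i ≠ j) : 1 + ∑ i ∈ s, (f i - 1) < ∏ i ∈ s, f i := by
  classical
  rw [← Finset.add_sum_erase s _ hi, ← Finset.mul_prod_erase s _ hi]
  have h1 := one_add_sum_le (s.erase i) f fun j hj => h j (Finset.mem_of_mem_erase hj)
  have h2 := Finset.single_le_sum (f := fun i => f i - 1) (fun _ _ => Nat.zero_le _)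
    (Finset.mem_erase.2 ⟨hij.symm, hj⟩)
  have h3 := h j hj
  obtain ⟨k, hk⟩ := Nat.exists_eq_add_of_le (h i hi)
  rw [hk, show 2 + k - 1 = k + 1 by omega]
  have h4 : 2 ≤ ∏ i ∈ s.erase i, f i := by omega
  nlinarith

theorem mmax_Sylow [Fact p.Prime] (hP : SylowIn p P M) (hn : N[P] ≤ M) : SylowIn p P ⊤ :=
  Sylow_subnorm (by rw [top_inf_eq]; exact pHall_subl (normG P) hn hP)

structure Ctx (p : ℕ) (S : Subgroup G) (x : G) : Prop where
  min : Min G
  five : 5 ≤ p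
  syl : SylowIn p S ⊤
  cyc : IsCyclic S
  mem : x ∈ S
  ord : orderOf x = p

namespace Ctx

variable [hp : Fact p.Prime] (h : Ctx p S x)
include h

theorem card : #(zpowers x) = p := by rw [Nat.card_zpowers, h.ord]
theorem prime : (#(zpowers x)).Prime := h.card ▸ hp.out
theorem pg : IsPGroup p (zpowers x) := pgroup_of_card_p h.card
theorem ne : x ≠ 1 := fun e => hp.out.ne_one (by rw [← h.ord, e, orderOf_one])

theorem cyc_of (hR : IsPGroup p R) : IsCyclic R := by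
  obtain ⟨g, -, hg⟩ := Sylow_subJ h.syl le_top hR
  exact cyclicS hg (cyclicJ g h.cyc)

theorem cent_pg : PiGrp {p} C1[x] := by
  have h1 := cent_sub_pcore (h.min.sol _ (h.min.cent1_ne h.ne))
    (h.min.cent1_core (p_elt_zpowers.1 h.pg.pi) h.ne)
  have hU := Op_pgroup p C1[x]
  have hc := h.cyc_of hU
  have h2 : x ∈ Op p C1[x] := h1 ⟨cent1_self x, le_cent1_iff.1 (pcore_sub _ _)⟩
  refine pgroup_of_elts fun c hc' => constt_eq_self.1 ?_
  have h3 := constt_mem {p}ᶜ hc'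
  have h4 : constt {p}ᶜ c = 1 := p_elt_eq_one (mem_p_elt hU.pi (h1 ⟨h3, zpowers_le.1
    (coprime_abelian_faithful_Ohm1 hU ((zpowers_le.2 h3).trans (pcore_normal _ _).norm)
      (pnat_coprime hU.pi (p_elt_zpowers.2 (p_elt_constt _ c))) (cyclic_abelian hc) (by
        rw [p1Elem_cyclic_Ohm1 hp.out hc (p1Elem_zpowers hp.out h2 h.ord), C_zpowers]
        exact zpowers_le.2 h3))⟩)) (p_elt_constt _ c)
  simpa [h4] using consttC {p} c

theorem TI (hD : PiGrp {p}ᶜ D) : D ⊓ C[zpowers x] = ⊥ := by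
  rw [C_zpowers]; exact pgroup_TI' hD h.cent_pg

theorem reg (hD : PiGrp {p}ᶜ D) : Semiregular D (zpowers x) := semiregular_prime h.prime (h.TI hD)

theorem fact (hT : T ≠ ⊤) (hx : x ∈ T) : Op' p T ⊔ T ⊓ N[zpowers x] = T := by
  obtain ⟨U, hU, h1⟩ := Sylow_superset (zpowers_le.2 hx) h.pg
  have hR := Sylow_setI_normal (pseries2_normal {p}ᶜ {p} T) hU
  have hc := h.cyc_of hU.pg
  have h2 : zpowers x ≤ Opp p T ⊓ U := le_inf ((le_inf (zpowers_le.2 hx)
    (sub_abelian_cent2 (cyclic_abelian hc) h1 inf_le_right)).trans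
      (solvable_p_constrained (h.min.sol T hT) hR)) h1
  have h3 := norms_sub_cyclic (cyclicS inf_le_right hc) h2 le_rfl
  refine le_antisymm (sup_le (pcore_sub _ _) inf_le_left) ?_
  refine (Frattini_arg (pseries2_normal {p}ᶜ {p} T) hR).ge.trans ?_
  exact sup_le ((Opp_sdprod hR).sup.ge.trans <| sup_le_sup_left (le_inf hR.le ((normG _).trans h3) |>.trans
    (inf_le_inf_right _ (pseries2_sub _ _ _))) _) (le_sup_of_le_right (inf_le_inf_left _ h3))

theorem normal (hT : T ≠ ⊤) (hx : x ∈ T) : Op' p T ⊔ zpowers x ⊴ T := by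
  refine ⟨sup_le (pcore_sub _ _) (zpowers_le.2 hx), ?_⟩
  conv_lhs => rw [← h.fact hT hx]
  exact sup_le (normsG le_sup_left)
    (normsY (inf_le_left.trans (pcore_normal _ _).norm) inf_le_right)

theorem le_Q (hT : T ≠ ⊤) (hx : x ∈ T) (hD : D ≤ T) (h1 : PiGrp {p}ᶜ D) (h2 : zpowers x ≤ N[D]) :
    D ≤ Op' p T := by
  have h3 := pnat_coprime' h1 h.pg.pi
  refine sub_of_coprime_sup ((zpowers_le.2 hx).trans (pcore_normal _ _).norm) ?_ h3
  rw [← coprime_cent_prod' h2 h3 (.inl (abelian_sol (abelian_zpowers x))), h.TI h1, sup_bot_eq]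
  exact (commgS _ le_sup_right).trans (commg_subr (hD.trans (h.normal hT hx).norm))

theorem nil (hT : T ≠ ⊤) (hx : x ∈ T) : Nil (Op' p T) :=
  prime_Frobenius_sol_kernel_nil ((zpowers_le.2 hx).trans (pcore_normal _ _).norm)
    (solvableS (pcore_sub _ _) (h.min.sol T hT)) h.prime (h.TI (pcore_pgroup _ _))

theorem Q_pg (hT : IsCoatom T) (hx : x ∈ T) : ∃ t, t.Prime ∧ IsPGroup t (Op' p T) := by
  obtain ⟨t, ht, -, h1⟩ := h.min.exists_char hT
  have := Fact.mk ht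
  exact ⟨t, ht, (Op_pgroup t T).sub (Fitting_eq_pcore h1 ▸
    Fitting_max (pcore_normal _ _) (h.nil hT.1 hx))⟩

theorem eq_of_meet (hT : IsCoatom T) (hx : x ∈ T) (hT' : IsCoatom T') (hx' : x ∈ T')
    (h1 : Op' p T ⊓ Op' p T' ≠ ⊥) : T = T' := by
  generalize hD : Op' p T ⊓ Op' p T' = D at h1
  induction D using WellFoundedGT.induction generalizing T T' with
  | ind D ih =>
  have nP : ∀ {T}, x ∈ T → zpowers x ≤ N[Op' p T] := fun hx =>
    (zpowers_le.2 hx).trans (pcore_normal _ _).norm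
  have h2 : zpowers x ≤ N[D] := hD ▸ normsI (nP hx) (nP hx')
  obtain ⟨L, hL, h3⟩ := mmax_exists (h.min.norm_ne h1
    (solvableS (hD.ge.trans (inf_le_left.trans (pcore_sub _ _))) (h.min.sol T hT.1)))
  have hxL := h3 (h2 (mem_zpowers x))
  have key : ∀ T, IsCoatom T → x ∈ T → D ≤ Op' p T → T = L := fun T hT hx h4 => by
    rcases h4.eq_or_lt with e | e
    · exact eq_mmax hT hL ((pcore_normal _ _).norm.trans (e ▸ h3))
    have h5 := (nilpotent_proper_norm (h.nil hT.1 hx) e).trans_le (le_inf inf_le_left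
      (h.le_Q hL.1 hxL (inf_le_right.trans h3) (pgroupS inf_le_left (pcore_pgroup _ _))
        (normsI (nP hx) (norms_norm h2))))
    exact ih _ h5 hT hx hL hxL rfl (ne_bot_of_gt h5)
  rw [key T hT hx (hD.ge.trans inf_le_left), key T' hT' hx' (hD.ge.trans inf_le_right)]

theorem norm_le (hT : IsCoatom T) (hx : x ∈ T) (h1 : Op' p T ≠ ⊥) : N[zpowers x] ≤ T := by
  intro n hn
  obtain ⟨w, hw, h2⟩ := trivgPn.1 h1
  obtain ⟨L, hL, h3, h4⟩ := h.min.two x (w * n)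
  have nP := (zpowers_le.2 hx).trans (pcore_normal {p}ᶜ T).norm
  have h5 : cj w (zpowers x) ≤ L := by
    rw [← cj_of_norm hn, ← cj_mul]; exact cj_le_of_mem h4 (zpowers_le.2 h3)
  have h6 : Op' p T ⊓ L ≠ ⊥ := trivgPn.2 ⟨w * (x * w⁻¹ * x⁻¹), ⟨mul_mem hw
    (conj_mem_of_norm (nP (mem_zpowers x)) (inv_mem hw)), by
      rw [show w * (x * w⁻¹ * x⁻¹) = w * x * w⁻¹ * x⁻¹ by group]
      exact L.mul_mem (h5 (conj_mem_cj w (mem_zpowers x))) (L.inv_mem h3)⟩, fun e => h2 (by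
      refine (eq_bot_iff_forall _).1 (h.TI (pcore_pgroup _ T)) w ⟨hw, ?_⟩
      rw [C_zpowers]
      exact mem_cent1.2 (by rw [← mul_inv_eq_one, ← e]; group))⟩
  obtain rfl := h.eq_of_meet hT hx hL h3 fun e => h6 (le_bot_iff.1 (e ▸ le_inf inf_le_left
    (h.le_Q hL.1 h3 inf_le_right (pgroupS inf_le_left (pcore_pgroup _ _))
      (normsI nP (normsG (zpowers_le.2 h3))))))
  exact (mul_mem_cancel_left (pcore_sub _ _ hw)).1 h4

theorem Q_TI (hx : x ∈ T) : Op' p T ⊓ N[zpowers x] = ⊥ := by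
  rw [coprime_norm_cent ((zpowers_le.2 hx).trans (pcore_normal _ _).norm)
    (pnat_coprime' (pcore_pgroup _ _) h.pg.pi), h.TI (pcore_pgroup _ _)]

theorem A_le [ht : Fact t.Prime] (hT : IsCoatom T) (hx : x ∈ T) (hQ : IsPGroup t (Op' p T))
    (h1 : Op' p T ≠ ⊥) (hR : SylowIn t R T) (hA : pnElem t (pRank t R) R A) : A ≤ Op' p T := by
  by_contra hAQ
  obtain ⟨Q, eQ⟩ : ∃ Q, Q = Op' p T := ⟨_, rfl⟩
  have hf := h.fact hT.1 hx
  have hI := h.Q_TI hx
  have hQn : Q ⊴ T := eQ ▸ pcore_normal _ _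
  have hQ' : PiGrp {p}ᶜ Q := eQ ▸ pcore_pgroup _ _
  rw [← eQ] at hQ h1 hAQ hf hI
  have htp : t ≠ p := fun e => h1 (trivg_of_pi (e ▸ hQ.pi) hQ')
  have hAT := hA.le.trans hR.le
  have nA := hAT.trans hQn.norm
  obtain ⟨A₀, e0⟩ : ∃ A₀, A₀ = (Q ⊔ A) ⊓ N[zpowers x] := ⟨_, rfl⟩
  have h2 : A₀ ≤ Q ⊔ A := e0 ▸ inf_le_left
  have h3 : A₀ ≤ N[zpowers x] := e0 ▸ inf_le_right
  have h4 : Q ⊔ A₀ = Q ⊔ A := by
    have := group_modl (A := Q) (B := T ⊓ N[zpowers x]) (.inr (inf_le_left.trans hQn.norm))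
      (le_sup_left : Q ≤ Q ⊔ A)
    rwa [hf, ← inf_assoc, inf_eq_left.2 (sup_le hQn.le hAT), ← e0, eq_comm] at this
  have nA0 : A₀ ≤ N[Q] := h2.trans (sup_le (normG _) nA)
  have h5 : Abelem t A₀ := isog_abelem (isog_symm (quotient_isog nA0 (le_bot_iff.1
    (hI ▸ le_inf inf_le_right (inf_le_left.trans h3))))) (by
      rw [← quotientYidl nA0, h4, quotientYidl nA]; exact quotient_abelem Q hA.abelem)
  have h6 : A₀ ≠ ⊥ := fun e => hAQ (le_sup_right.trans (by rw [← h4, e, sup_bot_eq]))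
  have h7 := (h.reg (p'group_of_ne h5.pg htp)).sym
  have h8 : #A₀ = t := cyclic_abelem_prime ht.out h5 (by_contra fun hc => ne_bot_of_prime h.prime
    (le_bot_iff.1 (coprime_abelian_gen_cent1 h5.abelian hc h3 (regular_norm_coprime h3 h7)
      fun a ha h1 => (h7 a ha h1).le))) h6
  have h9 := regular_norm_dvd_pred h3 h7
  rw [h8, h.card] at h9
  obtain ⟨Z, eZ⟩ : ∃ Z, Z = omegaOne t Z[Q] := ⟨_, rfl⟩
  have z1 : Abelem t Z := eZ ▸ Ohm1_center_abelem t Q
  have z2 : Z ≤ Z[Q] := eZ ▸ Ohm_sub _ _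
  have z3 : T ≤ N[Z] := eZ ▸ (hQn.center.Ohm t).norm
  have z4 : Z ≠ ⊥ := eZ ▸ Ohm1_ne_bot (hQ.sub inf_le_left) (center_nil_ne_bot (pgroup_nil hQ) h1)
  have z5 : PiGrp {p}ᶜ Z := pgroupS (z2.trans inf_le_left) hQ'
  have c1 : A ⊓ Q ≤ C[Z] := inf_le_right.trans (cents_symm (z2.trans inf_le_right))
  have c2 := abelem_card_le ht.out (abelemY (abelemS inf_le_left hA.abelem) z1 c1) (sup_le
    (inf_le_left.trans hA.le) ((z2.trans inf_le_left).trans (normal_sub_Hall hR hQn hQ.pi)))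
  have c3 := card_sup_mul_inf (.inl (cents_norm c1))
  have c4 : #A = #(A ⊓ Q) * t := by
    rw [← card_inf_mul_relIndex Q A, inf_comm, ← relIndex_sup_norml nA, ← h4, relIndex_sup_norml nA0,
      ← card_quotient nA0, card_quotient_TI nA0 (le_bot_iff.1 (hI ▸ inf_le_inf_left _ h3)), h8]
  obtain ⟨n, hn, hn1⟩ := trivgPn.1 h6
  have c5 : A ⊓ Q ⊓ Z ≤ Z ⊓ C1[n] := le_inf inf_le_right (le_cent1_iff.2 (sup_le
    (cents_symm (inf_le_right.trans (z2.trans inf_le_right)))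
    (sub_abelian_cent hA.abelian (inf_le_left.trans inf_le_left)) (h2 hn)))
  have c6 : #Z ≤ t * #(Z ⊓ C1[n]) := by
    rw [← hA.card, c4] at c2
    refine Nat.le_of_mul_le_mul_left ?_ (cardG_pos (A ⊓ Q))
    rw [← c3, ← mul_assoc]
    exact Nat.mul_le_mul c2 (card_le_card c5)
  have c7 : (Z ⊓ C1[n]) ⊓ cj x (Z ⊓ C1[n]) = ⊥ := by
    refine le_bot_iff.1 (le_trans (le_inf (inf_le_left.trans inf_le_left) fun y hy => ?_)
      (h.reg z5 (x * (n * x⁻¹ * n⁻¹)) (mul_mem (mem_zpowers x)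
        (conj_mem_of_norm (h3 hn) (inv_mem (mem_zpowers x)))) fun e => h.ne
          ((eq_bot_iff_forall _).1 (h7 n hn hn1) x ⟨mem_zpowers x, mem_cent1.2 (by
            rw [← mul_inv_eq_one, ← e]; group)⟩)).le)
    rw [cj_inf, ← C1_conj] at hy
    rw [mem_cent1_comm, show x * (n * x⁻¹ * n⁻¹) = x * n * x⁻¹ * n⁻¹ by group]
    exact mul_mem (mem_cent1_comm.1 hy.2.2) (inv_mem (mem_cent1_comm.1 hy.1.2))
  have c8 := card_le_card (sup_le inf_le_left (cj_le_of_norm (z3 hx) inf_le_left) :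
    (Z ⊓ C1[n]) ⊔ cj x (Z ⊓ C1[n]) ≤ Z)
  rw [card_sup_TI (.inl (cents_norm (sub_abelian_cent2 z1.abelian inf_le_left
    (cj_le_of_norm (z3 hx) inf_le_left)))) c7, card_cj] at c8
  have c9 : #Z ≤ t ^ 2 := by
    have := Nat.le_of_mul_le_mul_right (c8.trans c6) (cardG_pos _)
    nlinarith
  have c10 := regular_norm_dvd_pred ((zpowers_le.2 hx).trans z3) (h.reg z5)
  obtain ⟨k, hk⟩ := (p_natP ht.out).1 z1.pg.pi
  have c11 := cardG_gt1 z4
  rw [hk] at c9 c10 c11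
  rw [h.card] at c10
  have t2 := ht.out.two_le
  have p5 := h.five
  have c12 := Nat.le_of_dvd (by omega) h9
  have c13 := (Nat.pow_le_pow_iff_right ht.out.one_lt).1 c9
  have c14 : p ∣ (t - 1) * (t + 1) := by
    interval_cases k
    · simp at c11
    · exact Dvd.dvd.mul_right (by simpa using c10) _
    · obtain ⟨s, rfl⟩ : ∃ s, t = s + 1 := ⟨t - 1, by omega⟩
      convert c10 using 1
      rw [Nat.add_sub_cancel, eq_tsub_iff_add_eq_of_le c11.le]; ring
  rcases (Nat.Prime.dvd_mul hp.out).1 c14 with c | c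
  · have := Nat.le_of_dvd (by omega) c; omega
  · have := Nat.le_of_dvd (by omega) c
    rcases ht.out.eq_two_or_odd with c' | c'
    · omega
    · rcases hp.out.eq_two_or_odd with c'' | c'' <;> omega

theorem norm_J [ht : Fact t.Prime] (hT : IsCoatom T) (hx : x ∈ T) (hQ : IsPGroup t (Op' p T))
    (h1 : Op' p T ≠ ⊥) (hR : SylowIn t R T) : N[Jm t (pRank t R) R] = T := by
  have h2 := normal_sub_Hall hR (pcore_normal {p}ᶜ T) hQ.pi
  have h3 : Jm t (pRank t R) R = Jm t (pRank t R) (Op' p T) := by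
    unfold Jm; congr 1; ext A
    exact ⟨fun hA => pnElem.of_le hA (h.A_le hT hx hQ h1 hR hA), fun hA => pnElem.mono hA h2⟩
  obtain ⟨E, hE⟩ := p_rank_witness ht.out R
  refine h.min.norm_eq' hT (fun e => nt_pnElem ht.out hE (p_rank_gt0.2 ⟨ht.out,
    (pgroup_pdiv hQ h1).trans (cardSg h2)⟩) (le_bot_iff.1 (e ▸ le_sSup hE)))
    ⟨sSup_le fun A hA => hA.le.trans hR.le, h3 ▸ (pcore_normal _ _).norm.trans (norms_Jm _)⟩

theorem eq_of_char [ht : Fact t.Prime] (hT : IsCoatom T) (hx : x ∈ T) (hQ : IsPGroup t (Op' p T))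
    (h1 : Op' p T ≠ ⊥) (hT' : IsCoatom T') (hx' : x ∈ T') (hQ' : IsPGroup t (Op' p T'))
    (h1' : Op' p T' ≠ ⊥) : T = T' := by
  obtain ⟨R, hR⟩ := Sylow_exists t T
  obtain ⟨R', hR'⟩ := Sylow_exists t T'
  have e := h.norm_J hT hx hQ h1 hR
  have e' := h.norm_J hT' hx' hQ' h1' hR'
  obtain ⟨g, -, rfl⟩ := Sylow_trans (mmax_Sylow hR (e ▸ norms_Jm R)) (mmax_Sylow hR' (e' ▸ norms_Jm R'))
  rw [p_rankJ, ← cj_Jm, N_cj, e] at e'
  obtain ⟨U, hU, h2⟩ := Sylow_superset (zpowers_le.2 hx') h.pg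
  obtain ⟨k, hk, h3⟩ := Sylow_Jsub hU (e' ▸ cj_mono g (zpowers_le.2 hx)) (h.pg.cj g)
  have h4 := eq_subG_cyclic (h.cyc_of hU.pg) h3 h2 (by simp)
  rw [← cj_mul, ← mem_norm] at h4
  rw [← cj_of_mem hk, ← e', ← cj_mul, cj_of_mem (h.norm_le hT hx h1 h4)]

theorem exists_T (hq : q.Prime) (hG : q ∣ Nat.card G) (hqp : q ≠ p) :
    ∃ T, IsCoatom T ∧ x ∈ T ∧ q ∣ #(Op' p T) := by
  by_contra h1
  push Not at h1
  refine h.ne (h.min.powell hq hG fun g => ?_)
  obtain ⟨T, hT, h2, h3⟩ := h.min.two x g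
  exact ⟨T, pcore_max (h.normal hT.1 h2) (pgroupY (.inr ((zpowers_le.2 h2).trans
    (pcore_normal _ _).norm)) ((p'natE hq).2 (h1 T hT h2)) (p'group_of_ne h.pg hqp.symm))
    (mem_sup_right (mem_zpowers x)), h3⟩

theorem absurd : False := by
  classical
  have := Fintype.ofFinite G
  have := Fintype.ofFinite (Subgroup G)
  obtain ⟨s, hs⟩ : ∃ s : Finset (Subgroup G), ∀ T, T ∈ s ↔ IsCoatom T ∧ x ∈ T ∧ Op' p T ≠ ⊥ :=
    ⟨Finset.univ.filter fun T => IsCoatom T ∧ x ∈ T ∧ Op' p T ≠ ⊥, fun T => by simp⟩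
  obtain ⟨N, hN⟩ : ∃ N, N = N[zpowers x] := ⟨_, rfl⟩
  have h1 : ∀ T ∈ s, N ≤ T ∧ N.relIndex T = #(Op' p T) := fun T hT => by
    obtain ⟨h1, h2, h3⟩ := (hs T).1 hT
    have h4 := h.norm_le h1 h2 h3
    refine ⟨hN ▸ h4, hN ▸ Sdprod.relIndexr ⟨?_, h4.trans (pcore_normal _ _).norm, h.Q_TI h2⟩⟩
    simpa only [inf_eq_right.2 h4] using h.fact h1.1 h2
  have h2 : ∏ T ∈ s, #(Op' p T) ∣ N.index := Finset.prod_dvd_of_isRelPrime (fun T hT T' hT' hne => by
    obtain ⟨a1, a2, a3⟩ := (hs T).1 hT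
    obtain ⟨b1, b2, b3⟩ := (hs T').1 hT'
    obtain ⟨t, ht, h2⟩ := h.Q_pg a1 a2
    obtain ⟨t', ht', h3⟩ := h.Q_pg b1 b2
    have := Fact.mk ht; have := Fact.mk ht'
    exact Nat.coprime_iff_isRelPrime.1 (pnat_coprime h2.pi (p'group_of_ne h3 fun e =>
      hne (h.eq_of_char a1 a2 h2 a3 b1 b2 (e ▸ h3) b3))))
    fun T hT => (h1 T hT).2 ▸ relIndex_dvd_index_of_le (h1 T hT).1
  have h3 : N.index ≤ 1 + ∑ T ∈ s, (#(Op' p T) - 1) := by
    have hc : ∀ T : Subgroup G, (Finset.univ.filter (· ∈ T)).card = #T := fun T => by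
      rw [Nat.card_eq_fintype_card, Fintype.card_subtype]
    have h3 : (Finset.univ : Finset G) ⊆ Finset.univ.filter (· ∈ N) ∪
        s.biUnion fun T => Finset.univ.filter (· ∈ T) \ Finset.univ.filter (· ∈ N) := fun g _ => by
      obtain ⟨T, a1, a2, a3⟩ := h.min.two x g
      by_cases h3 : g ∈ N
      · simp [h3]
      have h4 : T ∈ s := (hs T).2 ⟨a1, a2, fun e => h3 (by
        have := h.fact a1.1 a2
        rw [e, bot_sup_eq, inf_eq_left, ← hN] at this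
        exact this a3)⟩
      simp only [Finset.mem_union, Finset.mem_biUnion, Finset.mem_sdiff, Finset.mem_filter,
        Finset.mem_univ, true_and]
      exact .inr ⟨T, h4, a3, h3⟩
    have h4 := ((Finset.card_le_card h3).trans (Finset.card_union_le _ _)).trans
      (Nat.add_le_add_left Finset.card_biUnion_le _)
    rw [Finset.card_univ, ← Nat.card_eq_fintype_card, ← N.card_mul_index, hc,
      Finset.sum_congr rfl (g := fun T => #N * (#(Op' p T) - 1)) fun T hT => by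
        rw [Finset.card_sdiff_of_subset (fun g hg => by simpa using (h1 T hT).1 (by simpa using hg)),
          hc, hc, ← card_mul_relIndex (h1 T hT).1, (h1 T hT).2, Nat.mul_sub_one],
      ← Finset.mul_sum] at h4
    exact Nat.le_of_mul_le_mul_left (by rwa [mul_add, mul_one]) (cardG_pos N)
  obtain ⟨q, hq, hqG, hqp⟩ : ∃ q, q.Prime ∧ q ∣ Nat.card G ∧ q ≠ p := by
    by_contra h4; push Not at h4
    exact h.min.nsol (isog_sol isog_top
      (Char.isSolvable_of_two_primes (p := p) (q := p) fun r hr h5 => .inl (h4 r hr h5)))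
  obtain ⟨r, hr, hrG, hrp, hrq⟩ : ∃ r, r.Prime ∧ r ∣ Nat.card G ∧ r ≠ p ∧ r ≠ q := by
    by_contra h4; push Not at h4
    exact h.min.nsol (isog_sol isog_top (Char.isSolvable_of_two_primes (p := p) (q := q)
      fun r hr h5 => or_iff_not_imp_left.2 (h4 r hr h5)))
  obtain ⟨T, a1, a2, a3⟩ := h.exists_T hq hqG hqp
  obtain ⟨T', b1, b2, b3⟩ := h.exists_T hr hrG hrp
  have h4 := one_add_sum_lt s (fun T => #(Op' p T)) (fun T hT => cardG_gt1 ((hs T).1 hT).2.2)
    ((hs T).2 ⟨a1, a2, fun e => hq.one_lt.ne' (by simpa [e] using a3)⟩)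
    ((hs T').2 ⟨b1, b2, fun e => hr.one_lt.ne' (by simpa [e] using b3)⟩) (by
      rintro rfl
      obtain ⟨t, ht, h2⟩ := h.Q_pg a1 a2
      have := Fact.mk ht
      exact hrq ((h2.pi r hr b3).trans (h2.pi q hq a3).symm))
  exact (h4.trans_le (Nat.le_of_dvd (Nat.pos_of_ne_zero index_ne_zero_of_finite) h2)).not_ge h3

end Ctx

theorem not_min (h : Min G) : False := by
  obtain ⟨p, hp, hG, h2, h3⟩ : ∃ r, r.Prime ∧ r ∣ Nat.card G ∧ r ≠ 2 ∧ r ≠ 3 := by
    by_contra h4; push Not at h4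
    exact h.nsol (isog_sol isog_top (Char.isSolvable_of_two_primes (p := 2) (q := 3)
      fun r hr h5 => or_iff_not_imp_left.2 (h4 r hr h5)))
  have := Fact.mk hp
  have h5 : 5 ≤ p := hp.five_le_of_ne_two_of_ne_three h2 h3
  obtain ⟨S, hS⟩ := Sylow_exists p (⊤ : Subgroup G)
  obtain ⟨x, hx, ho⟩ := Cauchy hp (pgroup_pdiv (hS.pg.sub (center_sub S))
    (center_nil_ne_bot (pgroup_nil hS.pg) (Sylow_ne_bot hS (by rwa [card_top]))))
  exact Ctx.absurd ⟨h, h5, hS, h.cyc h5 hS hx ho, hx.1, ho⟩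

theorem solvable_of_two.{u} (G : Type u) [Group G] [Finite G]
    (h : ∀ a b : G, Sol (closure ({a, b} : Set G))) : Sol G := by
  induction hn : Nat.card G using Nat.strong_induction_on generalizing G with
  | _ n ih =>
  have h1 : ∀ H : Subgroup G, H ≠ ⊤ → Sol H := fun H hH => ih _ (by
      rw [← hn, ← card_top (G := G)]; exact proper_card hH.lt_top) H (fun a b => by
    refine isog_sol (isog_symm (isog_map_inj H.subtype_injective _)) ?_
    rw [MonoidHom.map_closure, Set.image_pair]; exact h _ _) rfl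
  by_contra h2
  refine not_min ⟨fun N hN => ?_, fun h3 => h2 (isog_sol (isog_symm isog_top) h3), h1, fun a b => ?_⟩
  · by_contra h3
    push Not at h3
    have := hN.normal
    refine h2 ((Group.isSolvable_iff_subgroup_quotient N).2 ⟨h1 N h3.2, ih _ ?_ (G ⧸ N)
      (fun a b => ?_) rfl⟩)
    · rw [← hn, ← N.card_mul_index]
      exact lt_mul_of_one_lt_left Nat.card_pos (cardG_gt1 h3.1)
    · obtain ⟨a, rfl⟩ := QuotientGroup.mk'_surjective N a
      obtain ⟨b, rfl⟩ := QuotientGroup.mk'_surjective N b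
      rw [← Set.image_pair, ← MonoidHom.map_closure]
      exact solvable_map _ (h a b)
  · obtain ⟨T, hT, h3⟩ := mmax_exists (H := closure {a, b}) fun e =>
      h2 (isog_sol (isog_symm isog_top) (e ▸ h a b))
    exact ⟨T, hT, h3 (subset_closure (by simp)), h3 (subset_closure (by simp))⟩

end Cfsg.Agent.Flav
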